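import Cfsg.Agent.Mrg.Omega.NO1.Types
import Cfsg.Agent.Mrg.Omega.S5.Syl
import Cfsg.Agent.Mrg.Omega.Node.NO1
import Cfsg.Agent.Mrg.Omega.NO1.Sym.Frame
import Cfsg.Agent.Mrg.Omega.Half.Basic

section


/-!
# `SymAll`, one block, degree 5: the type `Minus2` (project OMEGA, N1)

`minus2`: `V_P` the even-subset module of `S₅`, `C_V(O²(P)) = 1`; `z i` is the complement of the point `i`.
-/

set_option autoImplicit false

namespace Cfsg.Agent.Omega.NO1.Sym.EndOne

open Subgroup Cfsg Cfsg.Agent.ZN Cfsg.Agent.Omega.FFThm Cfsg.Agent.Omega.S5.Def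
open Cfsg.Agent.Omega.S5.Of (lab evenSet fix0)

universe u

variable {G : Type u} [Group G] [Finite G]

theorem vec_eq (x : Fin 5 → ZMod 2) : x = x 0 • Pi.single 0 1 + x 1 • Pi.single 1 1 + x 2 • Pi.single 2 1 +
    x 3 • Pi.single 3 1 + x 4 • Pi.single 4 1 := by
  have h1 : x = ∑ i, x i • (Pi.single i 1 : Fin 5 → ZMod 2) := by
    funext j
    simp [Finset.sum_apply, Pi.single_apply]
  conv_lhs => rw [h1]
  rw [Fin.sum_univ_five]

omit [Finite G] in
theorem gen_eq {V P : Subgroup G} {ε : (Fin 5 → ZMod 2) → G} (h : EvenSet 5 V P ε) :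
    closure (Set.range fun i => ε (Pi.single i 1)) = V := by
  apply le_antisymm
  · rw [closure_le]
    rintro _ ⟨i, rfl⟩
    exact h.mem _
  · intro v hv
    obtain ⟨x, rfl⟩ := h.surj v hv
    have key : ∀ (a : ZMod 2) (i : Fin 5), ε (a • Pi.single i 1) ∈
        closure (Set.range fun i => ε (Pi.single i 1)) := by
      intro a i
      have ha : a = 0 ∨ a = 1 := by revert a; decide
      rcases ha with rfl | rfl
      · rw [zero_smul, h.zero]; exact one_mem _
      · rw [one_smul]; exact subset_closure ⟨i, rfl⟩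
    rw [vec_eq x, h.add, h.add, h.add, h.add]
    exact mul_mem (mul_mem (mul_mem (mul_mem (key _ _) (key _ _)) (key _ _)) (key _ _)) (key _ _)

theorem of_evenSet {S : Sylow 2 G} {P : Subgroup G} (h : Cfg S P) {ε : (Fin 5 → ZMod 2) → G}
    (E : EvenSet 5 (zl (S : Subgroup G) P) P ε) (h0 : S5.Syl.Fix0 ε (S : Subgroup G)) :
    Minus2 (S : Subgroup G) P fun i => ε (Pi.single i 1) where
  inj i j hij := E.single_inj (by norm_num) hij
  ne_one i := E.single_ne_one (by norm_num) i
  sq i := E.sq _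
  comm i j := E.comm _ _
  prod := by
    rw [← E.add, ← E.add, ← E.add, ← E.add]
    refine (E.ker _).2 (Or.inr ?_)
    decide
  gen := gen_eq E
  Z := by
    have hfix : ∀ v ∈ zc (S : Subgroup G), v = 1 ∨ v = ε (Pi.single 0 1) := by
      intro v hv
      refine S5.Syl.fixed (m := 2) (by norm_num) E h.S_le (MinSimple.Basic.not_dvd_relIndex S h.S_le) h0
        (h.Z_le_V hv) fun s hs => ?_
      have h1 := MinSimple.VModule.le_centralizer_zc (S : Subgroup G) hs
      exact ((mem_centralizer_iff.1 h1) v hv).symm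
    have hz : ε (Pi.single 0 1) ∈ zc (S : Subgroup G) := by
      by_contra hcon
      refine MinSimple.Basic.zc_ne_bot S.isPGroup' (h.ctx.sylow_ne_bot S) ?_
      rw [eq_bot_iff]
      intro v hv
      rcases hfix v hv with h1 | h1
      · exact mem_bot.2 h1
      · exact absurd (h1 ▸ hv) hcon
    apply le_antisymm
    · intro v hv
      rcases hfix v hv with h1 | h1
      · rw [h1]
        exact one_mem _
      · rw [h1]
        exact mem_zpowers _
    · rw [zpowers_le]
      exact hz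
  perm m hm := by
    obtain ⟨σ, hσ⟩ := E.perm m hm
    exact ⟨σ, fun i => hσ.single i⟩
  alt σ _ := by
    obtain ⟨m, hm, hσ⟩ := E.full σ
    exact ⟨m, hm, fun i => hσ.single i⟩

/-- **`SymAll`, `k = 1`, `m = 2`.** -/
theorem minus2 {S : Sylow 2 G} {P : Subgroup G} (h : Cfg S P)
    (M : SymK (S : Subgroup G) P (zl (S : Subgroup G) P) (FrameFF.cv (S : Subgroup G) P) 1 2) :
    ∃ z : Fin 5 → G, Minus2 (S : Subgroup G) P z := by
  have hD : FrameFF.cv (S : Subgroup G) P = ⊥ := h.one.cen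
  have hH : P ≤ normalizer (zl (S : Subgroup G) P : Set G) := Cfg.P_norm_V S P
  exact ⟨_, of_evenSet h (evenSet M hD (by norm_num) hH) (fix0 M hD (by norm_num) hH h.S_le)⟩

end Cfsg.Agent.Omega.NO1.Sym.EndOne

end

section


/-!
# `SymAll`: `V_P` a sum of even-subset modules (project OMEGA, N1, text #14697)

`symAll : NO1.SymAll`: then `k = 1`, `m = 2` and `V_P = O₄⁻(2)`.
-/

set_option autoImplicit false

namespace Cfsg.Agent.Omega.NO1.Sym

open Subgroup Cfsg Cfsg.Agent.ZN Cfsg.Agent.Omega.MinPar Cfsg.Agent.Omega.Frame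
open Cfsg.Agent.Omega.NoFF.LinesPlug (CC)
open Cfsg.Agent.Omega.FFThm (SymK)
open Cfsg.Agent.Omega.FrameFF (cv)

universe u

/-- **`SymAll`** (text #14697). -/
theorem symAll : NO1.SymAll.{u} := by
  intro G _ _ S P h k m hk hm M
  have e : cv (S : Subgroup G) P = ⊥ := h.one.cen
  have M' : SymK (S : Subgroup G) P (zl (S : Subgroup G) P) ⊥ k m := e ▸ M
  have hH : HalfStmt G := fun T To hT hc hQ w hw hw2 hw1 hcen =>
    HalfQ.o2_le_of_index_two T hT hc hQ hw hw2 hw1 hcen
  have hm2 : m = 2 := m_eq_two h M' hm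
  subst hm2
  rcases Nat.lt_or_ge 1 k with hk1 | hk1
  · exact (false_of_half h M' hm hH hk1).elim
  · have hk2 : k = 1 := by omega
    subst hk2
    obtain ⟨z, hz⟩ := EndOne.minus2 h M
    exact Ty.minus2 z hz

end Cfsg.Agent.Omega.NO1.Sym

end
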